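import Cfsg.Agent.H195.FC.Gens
import Cfsg.Agent.H198.FC.Defs

/-!
# S5764, L-C4: tensor decompositions (helper195)
-/

set_option autoImplicit false
set_option linter.unusedSectionVars false

namespace Cfsg.Agent.H195.FC

open Matrix Cfsg.Agent.H198.FC
open scoped Kronecker

universe u v

theorem det_one_of_nilp {K : Type*} [Field K] {V : Type*} [AddCommGroup V] [Module K V] [FiniteDimensional K V]
    {f : V →ₗ[K] V} (h : IsNilpotent (f - 1)) : LinearMap.det f = 1 := by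
  have h1 : IsNilpotent (1 - f) := by
    rw [← neg_sub]
    exact h.neg
  have h2 := h1.charpoly_eq_X_pow_finrank
  have h3 := LinearMap.eval_charpoly (1 - f) (1 : K)
  rw [h2, Polynomial.eval_pow, Polynomial.eval_X, one_pow] at h3
  rw [h3, map_one]
  congr 1
  abel

section

variable {K : Type u} [Field K] [Finite K] {V : Type v} [AddCommGroup V] [Module K V] [Module.Finite K V]
  {ι κ : Type} [Fintype ι] [DecidableEq ι] [Fintype κ] [DecidableEq κ] [Nonempty ι] [Nonempty κ]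
  (Φ : Matrix (ι × κ) (ι × κ) K ≃ₐ[K] R K V)

/-- `f` in matrix form -/
def mf (f : Equiv.Perm (R K V)) (X : Matrix (ι × κ) (ι × κ) K) : Matrix (ι × κ) (ι × κ) K := Φ.symm (f (Φ X))

theorem data {f : Equiv.Perm (R K V)} (hf : f ∈ RA K V)
    (hpres : ∀ B : Matrix ι ι K, ∃ B' : Matrix ι ι K, f (Φ (B ⊗ₖ (1 : Matrix κ κ K))) = Φ (B' ⊗ₖ (1 : Matrix κ κ K))) :
    Data (mf Φ f) where
  add X Y := by unfold mf; rw [map_add, hf.1, map_add]
  inj X Y h := by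
    unfold mf at h
    exact Φ.injective (f.injective (Φ.symm.injective h))
  mul := by
    rcases hf.2 with h | h
    · left; intro X Y; unfold mf; rw [map_mul, h, map_mul]
    · right; intro X Y; unfold mf; rw [map_mul, h, map_mul]
  pres B := by
    obtain ⟨B', hB'⟩ := hpres B
    refine ⟨B', ?_⟩
    unfold mf
    rw [hB', AlgEquiv.symm_apply_apply]

/-- the unit of `R` -/
def un (U : (Matrix (ι × κ) (ι × κ) K)ˣ) : (R K V)ˣ := Units.map (Φ : Matrix (ι × κ) (ι × κ) K →* R K V) U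

theorem step {S : Subgroup (Equiv.Perm (R K V))} (hS : S ≤ RA K V)
    (hpres : ∀ f ∈ S, ∀ B : Matrix ι ι K, ∃ B' : Matrix ι ι K, f (Φ (B ⊗ₖ (1 : Matrix κ κ K))) = Φ (B' ⊗ₖ (1 : Matrix κ κ K)))
    {f : Equiv.Perm (R K V)} (hf : f ∈ S) (U : (Matrix (ι × κ) (ι × κ) K)ˣ) {B : Matrix ι ι K} {h : Matrix κ κ K} {n : ℕ}
    (hn : 0 < n) (hB : B ^ n = 0) (hh : h ^ n = 0) (hB0 : B ≠ 0) (hh0 : h ≠ 0)
    (hU : (U : Matrix (ι × κ) (ι × κ) K) = 1 + B ⊗ₖ h)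
    (hm : cj K V (un Φ U) * f * (cj K V (un Φ U))⁻¹ ∈ S) :
    ((∀ X Y, mf Φ f (X * Y) = mf Φ f X * mf Φ f Y) → mf Φ f (B ⊗ₖ h) = B ⊗ₖ h) ∧
    ((∀ X Y, mf Φ f (X * Y) = mf Φ f Y * mf Φ f X) → B ^ 2 = 0 → mf Φ f (B ⊗ₖ h) = -(B ⊗ₖ h)) := by
  have D := data Φ (hS hf) (hpres f hf)
  have key := D.main hn hB hh hB0 hh0 hU U.mul_inv U.inv_mul (by
    intro C
    obtain ⟨E, hE⟩ := hpres _ hm C
    refine ⟨E, ?_⟩
    have e1 : (cj K V (un Φ U) * f * (cj K V (un Φ U))⁻¹) (Φ (C ⊗ₖ (1 : Matrix κ κ K))) =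
        Φ (U : Matrix (ι × κ) (ι × κ) K) * f (Φ ((U⁻¹ : (Matrix (ι × κ) (ι × κ) K)ˣ) : Matrix (ι × κ) (ι × κ) K) *
          Φ (C ⊗ₖ (1 : Matrix κ κ K)) * Φ (U : Matrix (ι × κ) (ι × κ) K)) *
          Φ ((U⁻¹ : (Matrix (ι × κ) (ι × κ) K)ˣ) : Matrix (ι × κ) (ι × κ) K) := by
      have e2 : (cj K V (un Φ U))⁻¹ = cj K V (un Φ U)⁻¹ := (map_inv _ _).symm
      rw [e2, Equiv.Perm.mul_apply, Equiv.Perm.mul_apply, cj_apply, cj_apply, inv_inv]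
      rfl
    rw [e1, ← map_mul, ← map_mul] at hE
    have e3 := congrArg Φ.symm hE
    rw [map_mul, map_mul, AlgEquiv.symm_apply_apply, AlgEquiv.symm_apply_apply, AlgEquiv.symm_apply_apply] at e3
    exact e3)
  constructor
  · intro hmul
    have h1 := key.1 hmul
    rw [hU, D.add, D.one] at h1
    exact add_left_cancel h1
  · intro hmul hB2
    have h1 := key.2 hmul
    rw [hU, D.add, D.one] at h1
    have h2 : (B ⊗ₖ h) * (B ⊗ₖ h) = 0 := by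
      rw [← Matrix.mul_kronecker_mul, ← pow_two, hB2, Matrix.zero_kronecker]
    set T := B ⊗ₖ h with hT
    have h3 : (1 - T) * ((1 + T) * (1 + mf Φ f T)) = 1 - T := by rw [h1, mul_one]
    have h4 : (1 - T) * ((1 + T) * (1 + mf Φ f T)) = (1 - T * T) * (1 + mf Φ f T) := by noncomm_ring
    rw [h4, h2, sub_zero, one_mul, sub_eq_add_neg] at h3
    exact add_left_cancel h3

theorem exists_unit {T : Matrix (ι × κ) (ι × κ) K} {n : ℕ} (hT : T ^ n = 0) :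
    ∃ U : (Matrix (ι × κ) (ι × κ) K)ˣ, (U : Matrix (ι × κ) (ι × κ) K) = 1 + T ∧
      LinearMap.det ((un Φ U : (R K V)ˣ) : R K V) = 1 := by
  have hnil : IsNilpotent T := ⟨n, hT⟩
  obtain ⟨U, hU⟩ := hnil.isUnit_one_add
  refine ⟨U, hU, ?_⟩
  apply det_one_of_nilp
  refine ⟨n, ?_⟩
  have e : ((un Φ U : (R K V)ˣ) : R K V) - 1 = Φ T := by
    change Φ (U : Matrix (ι × κ) (ι × κ) K) - 1 = Φ T
    rw [hU, map_add, map_one, add_sub_cancel_left]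
  rw [e, ← map_pow, hT, map_zero]

end

theorem single_sq {K : Type*} [Field K] {m : ℕ} {i j : Fin m} (h : i ≠ j) : (Matrix.single i j (1 : K)) ^ 2 = 0 := by
  rw [pow_two, Matrix.single_mul_single_of_ne _ _ _ _ (Ne.symm h)]

theorem single_ne {K : Type*} [Field K] {m : ℕ} (i j : Fin m) : Matrix.single i j (1 : K) ≠ 0 := by
  intro h
  have h1 := congrFun (congrFun h i) j
  simp at h1

theorem Hm_mul {K : Type*} [Field K] {a : ℕ} {γ : K} (hγ : γ ≠ 0) (i : Fin (a + 2)) : Hm a γ * Matrix.single 0 i 1 ≠ 0 := by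
  intro h
  have h1 := congrFun (congrFun h 0) i
  rw [Matrix.mul_single_apply_same, Hm_00, mul_one] at h1
  exact hγ h1

theorem mul_Hm {K : Type*} [Field K] {a : ℕ} (γ : K) {i : Fin (a + 2)} (h0 : i ≠ 0) (h1 : i ≠ 1) : Matrix.single 0 i 1 * Hm a γ = 0 := by
  have h2 : ∀ j, Hm a γ i j = 0 := by
    intro j
    simp [Hm, vecMulVec_apply, h0, h1]
  ext k j
  by_cases hk : k = 0
  · subst hk
    rw [Matrix.single_mul_apply_same, h2, mul_zero, Matrix.zero_apply]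
  · exact Matrix.single_mul_apply_of_ne _ _ _ _ _ hk _

/-- `StmtC4` with the hypothesis `(u' : K) ≠ 0`. -/
def StmtC4' : Prop :=
  ∀ (K : Type u) [Field K] [Finite K] (V : Type v) [AddCommGroup V] [Module K V] [Module.Finite K V]
    (S : Subgroup (Equiv.Perm (R K V))), S ≤ RA K V → Group.IsSolvable S →
    ∀ (u' y : ℕ) (Φ : Matrix (Fin u' × Fin y) (Fin u' × Fin y) K ≃ₐ[K] R K V), 2 ≤ u' → 2 ≤ y → (u' : K) ≠ 0 →
    (∀ f ∈ S, ∀ B : Matrix (Fin u') (Fin u') K, ∃ B' : Matrix (Fin u') (Fin u') K,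
      f (Φ (Matrix.kroneckerMap (· * ·) B (1 : Matrix (Fin y) (Fin y) K))) =
        Φ (Matrix.kroneckerMap (· * ·) B' (1 : Matrix (Fin y) (Fin y) K))) → Five S

theorem stmtC4' : StmtC4'.{u, v} := by
  intro K _ _ V _ _ _ S hS _ u' y Φ hu hy hchar hpres
  obtain ⟨a, rfl⟩ : ∃ a, u' = a + 2 := ⟨u' - 2, by omega⟩
  obtain ⟨b, rfl⟩ : ∃ b, y = b + 2 := ⟨y - 2, by omega⟩
  obtain ⟨g, hg⟩ := IsCyclic.exists_monoid_generator (α := Kˣ)
  have hγ : ∀ t : K, t ≠ 0 → ∃ k : ℕ, t = (g : K) ^ k := by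
    intro t ht
    obtain ⟨k, hk⟩ := hg (Units.mk0 t ht)
    refine ⟨k, ?_⟩
    have := congrArg (Units.val) hk
    simpa using this.symm
  have hγ0 : (g : K) ≠ 0 := g.ne_zero
  -- the fourth pair
  obtain ⟨B₄, h₄, hB4, hh4, hB40, hh40, hanti⟩ : ∃ (B₄ : Matrix (Fin (a + 2)) (Fin (a + 2)) K)
      (h₄ : Matrix (Fin (b + 2)) (Fin (b + 2)) K), B₄ ^ 2 = 0 ∧ h₄ ^ 2 = 0 ∧ B₄ ≠ 0 ∧ h₄ ≠ 0 ∧
      ∀ F, Data F → (∀ X Y, F (X * Y) = F Y * F X) → F (B₄ ⊗ₖ h₄) = -(B₄ ⊗ₖ h₄) →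
        F (Hm a 1 ⊗ₖ Hm b (g : K)) = -(Hm a 1 ⊗ₖ Hm b (g : K)) →
        (Sh K (a + 2) ^ 2 = 0 → F (Sh K (a + 2) ⊗ₖ Sh K (b + 2)) = -(Sh K (a + 2) ⊗ₖ Sh K (b + 2))) →
        ((Sh K (a + 2))ᵀ ^ 2 = 0 → F ((Sh K (a + 2))ᵀ ⊗ₖ (Sh K (b + 2))ᵀ) = -((Sh K (a + 2))ᵀ ⊗ₖ (Sh K (b + 2))ᵀ)) → False := by
    by_cases ha : 1 ≤ a
    · have n0 : (⟨2, by omega⟩ : Fin (a + 2)) ≠ 0 := by simp [Fin.ext_iff]
      have n1 : (⟨2, by omega⟩ : Fin (a + 2)) ≠ 1 := by simp [Fin.ext_iff]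
      refine ⟨Matrix.single 0 ⟨2, by omega⟩ 1, Matrix.single 0 1 1, single_sq (Ne.symm n0), single_sq (by simp),
        single_ne _ _, single_ne _ _, fun F D hm h4 h3 _ _ => ?_⟩
      exact anti_false_U D hm (Hm_ne a 1) (single_ne _ _) (Hm_ne b _) (single_ne _ _) h3 h4
        (Hm_mul one_ne_zero _) (mul_Hm 1 n0 n1)
    by_cases hb : 1 ≤ b
    · have n0 : (⟨2, by omega⟩ : Fin (b + 2)) ≠ 0 := by simp [Fin.ext_iff]
      have n1 : (⟨2, by omega⟩ : Fin (b + 2)) ≠ 1 := by simp [Fin.ext_iff]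
      refine ⟨Matrix.single 0 1 1, Matrix.single 0 ⟨2, by omega⟩ 1, single_sq (by simp), single_sq (Ne.symm n0),
        single_ne _ _, single_ne _ _, fun F D hm h4 h3 _ _ => ?_⟩
      exact anti_false_Y D hm (Hm_ne a 1) (single_ne _ _) (Hm_ne b _) (single_ne _ _) h3 h4
        (Hm_mul hγ0 _) (mul_Hm _ n0 n1)
    obtain rfl : a = 0 := by omega
    obtain rfl : b = 0 := by omega
    refine ⟨Hm 0 1, Hm 0 1, Hm_sq _ _, Hm_sq _ _, Hm_ne _ _, Hm_ne _ _, fun F D hm h4 _ h1 h2 => ?_⟩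
    exact anti_false_two D hm (by simpa using hchar) (h1 (Sh_nil _)) (h2 (ShT_nil _)) h4
  set N := a + b + 2 with hN
  have hle : ∀ {ι : Type} [Fintype ι] [DecidableEq ι] {M : Matrix ι ι K} {m : ℕ}, M ^ m = 0 → m ≤ N → M ^ N = 0 :=
    fun h hm => pow_eq_zero_of_le hm h
  have hT : ∀ (B : Matrix (Fin (a + 2)) (Fin (a + 2)) K) (h : Matrix (Fin (b + 2)) (Fin (b + 2)) K), B ^ N = 0 → (B ⊗ₖ h) ^ N = 0 := by
    intro B h hB
    rw [kron_pow, hB, Matrix.zero_kronecker]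
  obtain ⟨U₁, hU₁, hd₁⟩ := exists_unit Φ (hT (Sh K (a + 2)) (Sh K (b + 2)) (hle (Sh_nil _) (by omega)))
  obtain ⟨U₂, hU₂, hd₂⟩ := exists_unit Φ (hT (Sh K (a + 2))ᵀ (Sh K (b + 2))ᵀ (hle (ShT_nil _) (by omega)))
  obtain ⟨U₃, hU₃, hd₃⟩ := exists_unit Φ (hT (Hm a 1) (Hm b (g : K)) (hle (Hm_sq _ _) (by omega)))
  obtain ⟨U₄, hU₄, hd₄⟩ := exists_unit Φ (hT B₄ h₄ (hle hB4 (by omega)))
  refine ⟨![un Φ U₁, un Φ U₂, un Φ U₃, un Φ U₄], ?_, ?_⟩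
  · intro i
    fin_cases i
    · exact hd₁
    · exact hd₂
    · exact hd₃
    · exact hd₄
  · intro f hf hi
    have s1 := step Φ hS hpres hf U₁ (n := N) (by omega) (hle (Sh_nil _) (by omega)) (hle (Sh_nil _) (by omega)) (Sh_ne a) (Sh_ne b) hU₁ (hi 0)
    have s2 := step Φ hS hpres hf U₂ (n := N) (by omega) (hle (ShT_nil _) (by omega)) (hle (ShT_nil _) (by omega)) (ShT_ne a) (ShT_ne b) hU₂ (hi 1)
    have s3 := step Φ hS hpres hf U₃ (n := N) (by omega) (hle (Hm_sq _ _) (by omega)) (hle (Hm_sq _ _) (by omega)) (Hm_ne a 1) (Hm_ne b _) hU₃ (hi 2)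
    have s4 := step Φ hS hpres hf U₄ (n := N) (by omega) (hle hB4 (by omega)) (hle hh4 (by omega)) hB40 hh40 hU₄ (hi 3)
    have D := data Φ (hS hf) (hpres f hf)
    rcases D.mul with hm | hm
    · have h5 := auto_fix D hm (s1.1 hm) (s2.1 hm) hγ (s3.1 hm)
      apply Equiv.ext
      intro X
      have h6 := h5 (Φ.symm X)
      unfold mf at h6
      rw [AlgEquiv.apply_symm_apply] at h6
      exact Φ.symm.injective h6
    · exact (hanti _ D hm (s4.2 hm hB4) (s3.2 hm (Hm_sq _ _)) (s1.2 hm) (s2.2 hm)).elim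

end Cfsg.Agent.H195.FC
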