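import Cfsg.Agent.H195.FC.C4
import Cfsg.Agent.H55.FC.T3
import Cfsg.Agent.H786.FC.PartsC4

/-!
# S5764, L-C4: tensor decompositions, all characteristics (helper195)
-/

set_option autoImplicit false
set_option linter.unusedSectionVars false

namespace Cfsg.Agent.H195.FC

open Matrix Cfsg.Agent.H198.FC
open scoped Kronecker

universe u v

/-- the variant of helper786 -/
theorem stmtC4n : Cfsg.Agent.H786.FC.StmtC4n.{u, v} := stmtC4'

/-- **StmtC4**, by the three automorphism-killers and T3 of helper55 -/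
theorem stmtC4 : StmtC4.{u, v} := by
  intro K _ _ V _ _ _ S hS hsol u' y Φ hu hy hpres
  have hfin : Module.finrank K V = u' * y := by
    have h1 := Φ.toLinearEquiv.finrank_eq
    rw [Module.finrank_matrix, Module.finrank_self, mul_one] at h1
    have h2 : Module.finrank K (R K V) = Module.finrank K V * Module.finrank K V := Module.finrank_linearMap K K V V
    rw [h2, Fintype.card_prod, Fintype.card_fin, Fintype.card_fin] at h1
    exact (Nat.mul_self_inj.1 h1).symm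
  obtain ⟨a, rfl⟩ : ∃ a, u' = a + 2 := ⟨u' - 2, by omega⟩
  obtain ⟨b, rfl⟩ : ∃ b, y = b + 2 := ⟨y - 2, by omega⟩
  obtain ⟨g, hg⟩ := IsCyclic.exists_monoid_generator (α := Kˣ)
  have hγ : ∀ t : K, t ≠ 0 → ∃ k : ℕ, t = (g : K) ^ k := by
    intro t ht
    obtain ⟨k, hk⟩ := hg (Units.mk0 t ht)
    refine ⟨k, ?_⟩
    have := congrArg (Units.val) hk
    simpa using this.symm
  set N := a + b + 2 with hN
  have hle : ∀ {ι : Type} [Fintype ι] [DecidableEq ι] {M : Matrix ι ι K} {m : ℕ}, M ^ m = 0 → m ≤ N → M ^ N = 0 :=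
    fun h hm => pow_eq_zero_of_le hm h
  have hT : ∀ (B : Matrix (Fin (a + 2)) (Fin (a + 2)) K) (h : Matrix (Fin (b + 2)) (Fin (b + 2)) K), B ^ N = 0 → (B ⊗ₖ h) ^ N = 0 := by
    intro B h hB
    rw [kron_pow, hB, Matrix.zero_kronecker]
  obtain ⟨U₁, hU₁, hd₁⟩ := exists_unit Φ (hT (Sh K (a + 2)) (Sh K (b + 2)) (hle (Sh_nil _) (by omega)))
  obtain ⟨U₂, hU₂, hd₂⟩ := exists_unit Φ (hT (Sh K (a + 2))ᵀ (Sh K (b + 2))ᵀ (hle (ShT_nil _) (by omega)))
  obtain ⟨U₃, hU₃, hd₃⟩ := exists_unit Φ (hT (Hm a 1) (Hm b (g : K)) (hle (Hm_sq _ _) (by omega)))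
  refine Cfsg.Agent.H55.FC.five_of_three (by rw [hfin]; nlinarith) S hS hsol ![un Φ U₁, un Φ U₂, un Φ U₃] ?_ ?_
  · intro i
    fin_cases i
    · exact hd₁
    · exact hd₂
    · exact hd₃
  · intro f hfm hi
    have hf : f ∈ S := hfm.1
    have s1 := step Φ hS hpres hf U₁ (n := N) (by omega) (hle (Sh_nil _) (by omega)) (hle (Sh_nil _) (by omega)) (Sh_ne a) (Sh_ne b) hU₁ (hi 0)
    have s2 := step Φ hS hpres hf U₂ (n := N) (by omega) (hle (ShT_nil _) (by omega)) (hle (ShT_nil _) (by omega)) (ShT_ne a) (ShT_ne b) hU₂ (hi 1)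
    have s3 := step Φ hS hpres hf U₃ (n := N) (by omega) (hle (Hm_sq _ _) (by omega)) (hle (Hm_sq _ _) (by omega)) (Hm_ne a 1) (Hm_ne b _) hU₃ (hi 2)
    have D := data Φ (hS hf) (hpres f hf)
    have hm : ∀ X Y, mf Φ f (X * Y) = mf Φ f X * mf Φ f Y := by
      intro X Y
      unfold mf
      rw [map_mul, hfm.2.2, map_mul]
    have h5 := auto_fix D hm (s1.1 hm) (s2.1 hm) hγ (s3.1 hm)
    apply Equiv.ext
    intro X
    have h6 := h5 (Φ.symm X)
    unfold mf at h6
    rw [AlgEquiv.apply_symm_apply] at h6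
    exact Φ.symm.injective h6

end Cfsg.Agent.H195.FC
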