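import Cfsg.Agent.H195.FC.Ring

/-!
# S5764, tensor decompositions: the generators (helper195)
-/

set_option autoImplicit false
set_option linter.unusedSectionVars false

namespace Cfsg.Agent.H195.FC

open Matrix
open scoped Kronecker

section

variable {K : Type*} [Field K]

/-- the nilpotent shift -/
def Sh (K : Type*) [Field K] (n : ℕ) : Matrix (Fin n) (Fin n) K := Matrix.of fun i j => if (i : ℕ) + 1 = j then 1 else 0

theorem Sh_pow_apply (n k : ℕ) (i j : Fin n) : (Sh K n ^ k) i j = if (i : ℕ) + k = j then 1 else 0 := by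
  induction k generalizing j with
  | zero =>
    rw [pow_zero, Matrix.one_apply, add_zero]
    simp [Fin.ext_iff]
  | succ k ih =>
    rw [pow_succ, Matrix.mul_apply]
    simp only [ih]
    by_cases h : (i : ℕ) + (k + 1) = j
    · rw [if_pos h, Finset.sum_eq_single (⟨i + k, by omega⟩ : Fin n)]
      · simp only [Sh, Matrix.of_apply]
        rw [if_pos trivial, if_pos (by omega), one_mul]
      · intro l _ hl
        rw [if_neg, zero_mul]
        intro h1
        exact hl (Fin.ext h1.symm)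
      · intro h1
        exact absurd (Finset.mem_univ _) h1
    · rw [if_neg h]
      refine Finset.sum_eq_zero fun l _ => ?_
      simp only [Sh, Matrix.of_apply]
      by_cases h1 : (i : ℕ) + k = l
      · rw [if_pos h1, if_neg (by omega), mul_zero]
      · rw [if_neg h1, zero_mul]

theorem Sh_nil (n : ℕ) : Sh K n ^ n = 0 := by
  ext i j
  rw [Sh_pow_apply, if_neg (by omega), Matrix.zero_apply]

theorem ShT_nil (n : ℕ) : (Sh K n)ᵀ ^ n = 0 := by
  rw [← Matrix.transpose_pow, Sh_nil, Matrix.transpose_zero]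

/-- the square zero matrix `(e₀ + γ e₁) (γ e₀ - e₁)ᵀ` -/
def Hm (n : ℕ) (γ : K) : Matrix (Fin (n + 2)) (Fin (n + 2)) K :=
  vecMulVec (Pi.single 0 1 + γ • Pi.single 1 1) (γ • Pi.single 0 1 - Pi.single 1 1)

theorem Hm_sq (n : ℕ) (γ : K) : Hm n γ ^ 2 = 0 := by
  rw [pow_two, Hm, Matrix.vecMulVec_mul_vecMulVec]
  have : (γ • Pi.single (0 : Fin (n + 2)) (1 : K) - Pi.single 1 1) ⬝ᵥ (Pi.single 0 1 + γ • Pi.single 1 1) = 0 := by
    simp [dotProduct_add]
  rw [this]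
  simp

theorem Hm_00 (n : ℕ) (γ : K) : Hm n γ 0 0 = γ := by simp [Hm, vecMulVec_apply]
theorem Hm_01 (n : ℕ) (γ : K) : Hm n γ 0 1 = -1 := by simp [Hm, vecMulVec_apply]
theorem Hm_10 (n : ℕ) (γ : K) : Hm n γ 1 0 = γ ^ 2 := by simp [Hm, vecMulVec_apply, pow_two]
theorem Hm_11 (n : ℕ) (γ : K) : Hm n γ 1 1 = -γ := by simp [Hm, vecMulVec_apply]

theorem Hm_eq (n : ℕ) : Hm n (1 : K) = Matrix.single 0 0 1 - Matrix.single 0 1 1 + Matrix.single 1 0 1 - Matrix.single 1 1 1 := by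
  ext i j
  simp only [Hm, vecMulVec_apply, Matrix.sub_apply, Matrix.add_apply, Matrix.single_apply, Pi.add_apply, Pi.sub_apply,
    Pi.smul_apply, Pi.single_apply, smul_eq_mul]
  by_cases h0 : i = 0
  · subst h0
    by_cases h1 : j = 0
    · subst h1; simp
    · by_cases h2 : j = 1
      · subst h2; simp
      · simp [h1, h2, Ne.symm h1, Ne.symm h2]
  · by_cases h0' : i = 1
    · subst h0'
      by_cases h1 : j = 0
      · subst h1; simp
      · by_cases h2 : j = 1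
        · subst h2; simp
        · simp [h1, h2, Ne.symm h1, Ne.symm h2]
    · simp [h0, h0', Ne.symm h0, Ne.symm h0']

variable {n : ℕ} {f : Matrix (Fin (n + 2)) (Fin (n + 2)) K → Matrix (Fin (n + 2)) (Fin (n + 2)) K}

theorem single_mul_Sh (i : Fin (n + 2)) {k : ℕ} (hk : k + 1 < n + 2) :
    (Matrix.single i ⟨k + 1, hk⟩ 1 : Matrix (Fin (n + 2)) (Fin (n + 2)) K) = Matrix.single i ⟨k, by omega⟩ 1 * Sh K (n + 2) := by
  ext a b
  rw [Matrix.single_apply]
  by_cases h : i = a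
  · subst h
    rw [Matrix.single_mul_apply_same, one_mul]
    simp [Sh, Fin.ext_iff]
  · rw [if_neg (fun h1 => h h1.1)]
    exact (Matrix.single_mul_apply_of_ne _ _ _ _ _ (Ne.symm h) _).symm

theorem ShT_mul_single (j : Fin (n + 2)) {k : ℕ} (hk : k + 1 < n + 2) :
    (Matrix.single ⟨k + 1, hk⟩ j 1 : Matrix (Fin (n + 2)) (Fin (n + 2)) K) = (Sh K (n + 2))ᵀ * Matrix.single ⟨k, by omega⟩ j 1 := by
  have h := congrArg Matrix.transpose (single_mul_Sh (K := K) j hk)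
  rw [Matrix.transpose_mul, Matrix.transpose_single, Matrix.transpose_single] at h
  exact h

theorem single_00 : (Matrix.single 0 0 1 : Matrix (Fin (n + 2)) (Fin (n + 2)) K) = 1 - (Sh K (n + 2))ᵀ * Sh K (n + 2) := by
  ext i j
  rw [Matrix.single_apply, Matrix.sub_apply, Matrix.one_apply, Matrix.mul_apply]
  simp only [Matrix.transpose_apply, Sh, Matrix.of_apply]
  by_cases hi : i = 0
  · subst hi
    rw [Finset.sum_eq_zero, sub_zero]
    · simp
    · intro k _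
      rw [if_neg (by simp), zero_mul]
  · have hi' : (i : ℕ) ≠ 0 := fun h => hi (Fin.ext h)
    have hv : (((⟨(i : ℕ) - 1, by omega⟩ : Fin (n + 2)) : Fin (n + 2)) : ℕ) + 1 = i := Nat.sub_add_cancel (by omega)
    rw [if_neg (fun h => hi h.1.symm), Finset.sum_eq_single (⟨(i : ℕ) - 1, by omega⟩ : Fin (n + 2))]
    · rw [if_pos hv, one_mul]
      by_cases hij : i = j
      · subst hij
        rw [if_pos rfl, if_pos hv, sub_self]
      · rw [if_neg hij, if_neg, sub_zero]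
        intro h
        apply hij
        apply Fin.ext
        simp at h
        omega
    · intro k _ hk
      rw [if_neg, zero_mul]
      intro h
      apply hk
      apply Fin.ext
      simp
      omega
    · intro h
      exact absurd (Finset.mem_univ _) h

theorem ShS_ne : (Sh K (n + 2))ᵀ * Sh K (n + 2) ≠ 0 := by
  intro h
  have h1 := single_00 (K := K) (n := n)
  rw [h, sub_zero] at h1
  have h2 := congrFun (congrFun h1 1) 1
  simp at h2

theorem ShS_idem : ((Sh K (n + 2))ᵀ * Sh K (n + 2)) * ((Sh K (n + 2))ᵀ * Sh K (n + 2)) = (Sh K (n + 2))ᵀ * Sh K (n + 2) := by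
  have h1 : (Sh K (n + 2))ᵀ * Sh K (n + 2) = 1 - Matrix.single 0 0 1 := by rw [single_00]; abel
  rw [h1, sub_mul, mul_sub, mul_sub, mul_one, one_mul, mul_one, Matrix.single_mul_single_same, mul_one]
  abel

/-- the images of the matrix units -/
theorem units (hadd : ∀ X Y, f (X + Y) = f X + f Y) (hmul : ∀ X Y, f (X * Y) = f X * f Y) (h1 : f 1 = 1)
    {c c' : K} (hc : c ≠ 0) (hc' : c' ≠ 0) (hN : f (Sh K (n + 2)) = c • Sh K (n + 2))
    (hT : f (Sh K (n + 2))ᵀ = c' • (Sh K (n + 2))ᵀ) :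
    c' * c = 1 ∧ ∀ i j : Fin (n + 2), f (Matrix.single i j 1) = (c' ^ (i : ℕ) * c ^ (j : ℕ)) • Matrix.single i j 1 := by
  have e1 : f ((Sh K (n + 2))ᵀ * Sh K (n + 2)) = (c' * c) • ((Sh K (n + 2))ᵀ * Sh K (n + 2)) := by
    rw [hmul, hN, hT, Matrix.smul_mul, Matrix.mul_smul, smul_smul]
  have e2 : c' * c = 1 := by
    have h2 := congrArg f (ShS_idem (K := K) (n := n))
    rw [hmul, e1, Matrix.smul_mul, Matrix.mul_smul, smul_smul, ShS_idem] at h2
    have h3 := smul_left_injective K (ShS_ne (K := K) (n := n)) h2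
    have h4 : c' * c * (c' * c - 1) = 0 := by
      have : c' * c * (c' * c) = c' * c := h3
      linear_combination this
    rcases mul_eq_zero.1 h4 with h5 | h5
    · exact absurd h5 (mul_ne_zero hc' hc)
    · exact sub_eq_zero.1 h5
  refine ⟨e2, ?_⟩
  have h0 : f 0 = 0 := by
    have h := hadd 0 0
    rw [add_zero] at h
    exact left_eq_add.1 h
  have hsub : ∀ X Y, f (X - Y) = f X - f Y := by
    intro X Y
    have h := hadd (X - Y) Y
    rw [sub_add_cancel] at h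
    rw [h, add_sub_cancel_right]
  have e3 : f (Matrix.single 0 0 1) = Matrix.single 0 0 1 := by
    rw [single_00, hsub, h1, e1, e2, one_smul]
  have e4 : ∀ (k : ℕ) (hk : k < n + 2), f (Matrix.single 0 ⟨k, hk⟩ 1) = c ^ k • Matrix.single 0 ⟨k, hk⟩ 1 := by
    intro k
    induction k with
    | zero => intro hk; rw [pow_zero, one_smul]; exact e3
    | succ k ih =>
      intro hk
      rw [single_mul_Sh, hmul, ih, hN, Matrix.smul_mul, Matrix.mul_smul, smul_smul, pow_succ]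
  have e5 : ∀ (k : ℕ) (hk : k < n + 2), f (Matrix.single ⟨k, hk⟩ 0 1) = c' ^ k • Matrix.single ⟨k, hk⟩ 0 1 := by
    intro k
    induction k with
    | zero => intro hk; rw [pow_zero, one_smul]; exact e3
    | succ k ih =>
      intro hk
      rw [ShT_mul_single, hmul, ih, hT, Matrix.smul_mul, Matrix.mul_smul, smul_smul, pow_succ, mul_comm c']
  intro i j
  have e6 : (Matrix.single i j 1 : Matrix (Fin (n + 2)) (Fin (n + 2)) K) = Matrix.single i 0 1 * Matrix.single 0 j 1 := by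
    rw [Matrix.single_mul_single_same, mul_one]
  rw [e6, hmul, e4 j j.2, e5 i i.2, Matrix.smul_mul, Matrix.mul_smul, smul_smul]

/-- from the three pairs: the matrix units are fixed -/
theorem scal_one (hadd : ∀ X Y, f (X + Y) = f X + f Y) {c c' c₃ : K}
    (hu : ∀ i j : Fin (n + 2), f (Matrix.single i j 1) = (c' ^ (i : ℕ) * c ^ (j : ℕ)) • Matrix.single i j 1)
    (h3 : f (Hm n 1) = c₃ • Hm n 1) : c = 1 ∧ c₃ = 1 := by
  have hsub : ∀ X Y, f (X - Y) = f X - f Y := by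
    intro X Y
    have h := hadd (X - Y) Y
    rw [sub_add_cancel] at h
    rw [h, add_sub_cancel_right]
  have h4 : f (Hm n 1) = Matrix.single 0 0 1 - c • Matrix.single 0 1 1 + c' • Matrix.single 1 0 1 - (c' * c) • Matrix.single 1 1 1 := by
    rw [Hm_eq, hsub, hadd, hsub, hu, hu, hu, hu]
    simp
  rw [h4] at h3
  have e00 := congrFun (congrFun h3 0) 0
  have e01 := congrFun (congrFun h3 0) 1
  simp only [Matrix.sub_apply, Matrix.add_apply, Matrix.smul_apply, Matrix.single_apply, Hm_00, Hm_01] at e00 e01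
  simp at e00 e01
  rw [← e00] at e01
  exact ⟨by simpa using e01, e00.symm⟩

end

section

variable {K : Type*} [Field K] [Finite K] {a b : ℕ}
  {F : Matrix (Fin (a + 2) × Fin (b + 2)) (Fin (a + 2) × Fin (b + 2)) K →
    Matrix (Fin (a + 2) × Fin (b + 2)) (Fin (a + 2) × Fin (b + 2)) K}

theorem Hm_ne (n : ℕ) (γ : K) : Hm n γ ≠ 0 := by
  intro h
  have := congrFun (congrFun h 0) 1
  rw [Hm_01] at this
  simp at this

theorem Sh_ne (n : ℕ) : Sh K (n + 2) ≠ 0 := by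
  intro h
  have := congrFun (congrFun h 0) 1
  simp [Sh] at this

theorem ShT_ne (n : ℕ) : (Sh K (n + 2))ᵀ ≠ 0 := by
  intro h
  apply Sh_ne (K := K) n
  rw [← Matrix.transpose_transpose (Sh K (n + 2)), h, Matrix.transpose_zero]

/-- **Automorphisms.** -/
theorem auto_fix (D : Data F) (hmul : ∀ X Y, F (X * Y) = F X * F Y)
    (h1 : F (Sh K (a + 2) ⊗ₖ Sh K (b + 2)) = Sh K (a + 2) ⊗ₖ Sh K (b + 2))
    (h2 : F ((Sh K (a + 2))ᵀ ⊗ₖ (Sh K (b + 2))ᵀ) = (Sh K (a + 2))ᵀ ⊗ₖ (Sh K (b + 2))ᵀ)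
    {γ : K} (hγ : ∀ t : K, t ≠ 0 → ∃ k : ℕ, t = γ ^ k)
    (h3 : F (Hm a 1 ⊗ₖ Hm b γ) = Hm a 1 ⊗ₖ Hm b γ) (X : Matrix (Fin (a + 2) × Fin (b + 2)) (Fin (a + 2) × Fin (b + 2)) K) :
    F X = X := by
  obtain ⟨fU, hb, hU⟩ := D.exists_U
  obtain ⟨fY, hi, hY⟩ := D.exists_Y
  have hUadd : ∀ X Y, fU (X + Y) = fU X + fU Y := fun X Y => kron_inj_left (κ := Fin (b + 2)) (by
    rw [← hU, Matrix.add_kronecker, D.add, hU, hU, ← Matrix.add_kronecker])
  have hUmul : ∀ X Y, fU (X * Y) = fU X * fU Y := fun X Y => kron_inj_left (κ := Fin (b + 2)) (by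
    have e : ∀ A B : Matrix (Fin (a + 2)) (Fin (a + 2)) K, (A * B) ⊗ₖ (1 : Matrix (Fin (b + 2)) (Fin (b + 2)) K) =
      (A ⊗ₖ 1) * (B ⊗ₖ 1) := fun A B => by rw [← Matrix.mul_kronecker_mul, mul_one]
    rw [← hU, e, hmul, hU, hU, ← e])
  have hU1 : fU 1 = 1 := kron_inj_left (κ := Fin (b + 2)) (by rw [← hU, Matrix.one_kronecker_one, D.one])
  have hYadd : ∀ X Y, fY (X + Y) = fY X + fY Y := fun X Y => kron_inj_right (ι := Fin (a + 2)) (by
    rw [← hY, Matrix.kronecker_add, D.add, hY, hY, ← Matrix.kronecker_add])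
  have hYmul : ∀ X Y, fY (X * Y) = fY X * fY Y := fun X Y => kron_inj_right (ι := Fin (a + 2)) (by
    have e : ∀ A B : Matrix (Fin (b + 2)) (Fin (b + 2)) K, (1 : Matrix (Fin (a + 2)) (Fin (a + 2)) K) ⊗ₖ (A * B) =
      (1 ⊗ₖ A) * (1 ⊗ₖ B) := fun A B => by rw [← Matrix.mul_kronecker_mul, mul_one]
    rw [← hY, e, hmul, hY, hY, ← e])
  have hY1 : fY 1 = 1 := kron_inj_right (ι := Fin (a + 2)) (by rw [← hY, Matrix.one_kronecker_one, D.one])
  rw [D.kron hU hY] at h1 h2 h3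
  obtain ⟨c, hc, hc1, hc2⟩ := pure_eq h1 (Sh_ne a) (Sh_ne b)
  obtain ⟨c', hc', hc1', hc2'⟩ := pure_eq h2 (ShT_ne a) (ShT_ne b)
  obtain ⟨c₃, hc₃, hc₃1, hc₃2⟩ := pure_eq h3 (Hm_ne a 1) (Hm_ne b γ)
  obtain ⟨e1, e2⟩ := units hUadd hUmul hU1 hc hc' hc1 hc1'
  obtain ⟨rfl, rfl⟩ := scal_one hUadd e2 hc₃1
  have hc'1 : c' = 1 := by rw [← e1, mul_one]
  subst hc'1
  have e3 : ∀ i j, fU (Matrix.single i j 1) = Matrix.single i j 1 := by
    intro i j
    rw [e2, one_pow, one_pow, mul_one, one_smul]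
  obtain ⟨-, e4⟩ := units hYadd hYmul hY1 (inv_ne_zero hc) (inv_ne_zero hc') hc2 hc2'
  have e5 : ∀ i j, fY (Matrix.single i j 1) = Matrix.single i j 1 := by
    intro i j
    rw [e4, inv_one, one_pow, one_pow, mul_one, one_smul]
  rw [inv_one, one_smul] at hc₃2
  have e6 : fY (Matrix.single 0 0 γ) = Matrix.single 0 0 γ := by
    have e : (Matrix.single 0 0 γ : Matrix (Fin (b + 2)) (Fin (b + 2)) K) = Matrix.single 0 0 1 * Hm b γ * Matrix.single 0 0 1 := by
      rw [Matrix.single_mul_mul_single, Hm_00, one_mul, mul_one]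
    rw [e, hYmul, hYmul, e5, hc₃2]
  have e7 : ∀ t : K, fY (Matrix.single 0 0 t) = Matrix.single 0 0 t := by
    intro t
    by_cases ht : t = 0
    · subst ht
      rw [Matrix.single_zero]
      have h := hYadd 0 0
      rw [add_zero] at h
      exact left_eq_add.1 h
    · obtain ⟨k, rfl⟩ := hγ t ht
      clear ht
      induction k with
      | zero => rw [pow_zero]; exact e5 0 0
      | succ k ih =>
        have e : (Matrix.single 0 0 (γ ^ (k + 1)) : Matrix (Fin (b + 2)) (Fin (b + 2)) K) =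
            Matrix.single 0 0 (γ ^ k) * Matrix.single 0 0 γ := by
          rw [Matrix.single_mul_single_same, pow_succ]
        rw [e, hYmul, ih, e6]
  have e8 : ∀ (i j : Fin (a + 2)) (k l : Fin (b + 2)) (t : K),
      F (Matrix.single i j 1 ⊗ₖ Matrix.single k l t) = Matrix.single i j 1 ⊗ₖ Matrix.single k l t := by
    intro i j k l t
    have e : (Matrix.single k l t : Matrix (Fin (b + 2)) (Fin (b + 2)) K) =
        Matrix.single k 0 1 * Matrix.single 0 0 t * Matrix.single 0 l 1 := by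
      rw [Matrix.single_mul_single_same, Matrix.single_mul_single_same, one_mul, mul_one]
    rw [D.kron hU hY, e3, e, hYmul, hYmul, e5, e5, e7]
  let G : Matrix (Fin (a + 2) × Fin (b + 2)) (Fin (a + 2) × Fin (b + 2)) K →+
      Matrix (Fin (a + 2) × Fin (b + 2)) (Fin (a + 2) × Fin (b + 2)) K := ⟨⟨F, D.zero⟩, D.add⟩
  have e9 : ∀ p q t, G (Matrix.single p q t) = Matrix.single p q t := by
    rintro ⟨i, k⟩ ⟨j, l⟩ t
    have h := e8 i j k l t
    rw [Matrix.single_kronecker_single, one_mul] at h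
    exact h
  change G X = X
  conv_lhs => rw [Matrix.matrix_eq_sum_single X]
  conv_rhs => rw [Matrix.matrix_eq_sum_single X]
  rw [map_sum]
  refine Finset.sum_congr rfl fun p _ => ?_
  rw [map_sum]
  exact Finset.sum_congr rfl fun q _ => e9 p q _

theorem neg_kron {ι κ : Type*} (B : Matrix ι ι K) (h : Matrix κ κ K) : -(B ⊗ₖ h) = (-B) ⊗ₖ h := by
  ext ⟨i, j⟩ ⟨i', j'⟩
  simp

/-- **Anti-automorphisms**, first factor of dimension at least 3. -/
theorem anti_false_U {ι κ : Type*} [Fintype ι] [DecidableEq ι] [Fintype κ] [DecidableEq κ] [Nonempty ι] [Nonempty κ]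
    {F : Matrix (ι × κ) (ι × κ) K → Matrix (ι × κ) (ι × κ) K} (D : Data F)
    (hmul : ∀ X Y, F (X * Y) = F Y * F X) {B B' : Matrix ι ι K} {h h' : Matrix κ κ K} (hB0 : B ≠ 0) (hB0' : B' ≠ 0)
    (hh0 : h ≠ 0) (hh0' : h' ≠ 0) (h1 : F (B ⊗ₖ h) = -(B ⊗ₖ h)) (h2 : F (B' ⊗ₖ h') = -(B' ⊗ₖ h'))
    (hne : B * B' ≠ 0) (h0 : B' * B = 0) : False := by
  obtain ⟨fU, hb, hU⟩ := D.exists_U
  obtain ⟨fY, hi, hY⟩ := D.exists_Y
  have hUmul : ∀ X Y, fU (X * Y) = fU Y * fU X := fun X Y => kron_inj_left (κ := κ) (by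
    have e : ∀ A B : Matrix ι ι K, (A * B) ⊗ₖ (1 : Matrix κ κ K) =
      (A ⊗ₖ 1) * (B ⊗ₖ 1) := fun A B => by rw [← Matrix.mul_kronecker_mul, mul_one]
    rw [← hU, e, hmul, hU, hU, ← e])
  have hU0 : fU 0 = 0 := kron_inj_left (κ := κ) (by rw [← hU, Matrix.zero_kronecker, D.zero])
  rw [D.kron hU hY, neg_kron] at h1 h2
  obtain ⟨c, hc, hc1, -⟩ := pure_eq h1 (neg_ne_zero.2 hB0) hh0
  obtain ⟨c', hc', hc1', -⟩ := pure_eq h2 (neg_ne_zero.2 hB0') hh0'
  apply hne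
  apply hb.1
  rw [hUmul, hc1, hc1', hU0, Matrix.smul_mul, Matrix.mul_smul, neg_mul_neg, h0, smul_zero, smul_zero]

/-- **Anti-automorphisms**, second factor of dimension at least 3. -/
theorem anti_false_Y {ι κ : Type*} [Fintype ι] [DecidableEq ι] [Fintype κ] [DecidableEq κ] [Nonempty ι] [Nonempty κ]
    {F : Matrix (ι × κ) (ι × κ) K → Matrix (ι × κ) (ι × κ) K} (D : Data F)
    (hmul : ∀ X Y, F (X * Y) = F Y * F X) {B B' : Matrix ι ι K} {h h' : Matrix κ κ K} (hB0 : B ≠ 0) (hB0' : B' ≠ 0)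
    (hh0 : h ≠ 0) (hh0' : h' ≠ 0) (h1 : F (B ⊗ₖ h) = -(B ⊗ₖ h)) (h2 : F (B' ⊗ₖ h') = -(B' ⊗ₖ h'))
    (hne : h * h' ≠ 0) (h0 : h' * h = 0) : False := by
  obtain ⟨fU, hb, hU⟩ := D.exists_U
  obtain ⟨fY, hi, hY⟩ := D.exists_Y
  have hYmul : ∀ X Y, fY (X * Y) = fY Y * fY X := fun X Y => kron_inj_right (ι := ι) (by
    have e : ∀ A B : Matrix κ κ K, (1 : Matrix ι ι K) ⊗ₖ (A * B) =
      (1 ⊗ₖ A) * (1 ⊗ₖ B) := fun A B => by rw [← Matrix.mul_kronecker_mul, mul_one]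
    rw [← hY, e, hmul, hY, hY, ← e])
  have hY0 : fY 0 = 0 := kron_inj_right (ι := ι) (by rw [← hY, Matrix.kronecker_zero, D.zero])
  rw [D.kron hU hY, neg_kron] at h1 h2
  obtain ⟨c, hc, -, hc1⟩ := pure_eq h1 (neg_ne_zero.2 hB0) hh0
  obtain ⟨c', hc', -, hc1'⟩ := pure_eq h2 (neg_ne_zero.2 hB0') hh0'
  apply hne
  apply hi
  rw [hYmul, hc1, hc1', hY0, Matrix.smul_mul, Matrix.mul_smul, h0, smul_zero, smul_zero]

theorem Sh_two : Sh K (0 + 2) = Matrix.single 0 1 1 := by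
  ext i j
  fin_cases i <;> fin_cases j <;> simp [Sh]

/-- **Anti-automorphisms**, dimensions `2, 2`, odd characteristic. -/
theorem anti_false_two {F : Matrix (Fin (0 + 2) × Fin (0 + 2)) (Fin (0 + 2) × Fin (0 + 2)) K →
    Matrix (Fin (0 + 2) × Fin (0 + 2)) (Fin (0 + 2) × Fin (0 + 2)) K} (D : Data F)
    (hmul : ∀ X Y, F (X * Y) = F Y * F X) (h20 : (2 : K) ≠ 0)
    (h1 : F (Sh K (0 + 2) ⊗ₖ Sh K (0 + 2)) = -(Sh K (0 + 2) ⊗ₖ Sh K (0 + 2)))
    (h2 : F ((Sh K (0 + 2))ᵀ ⊗ₖ (Sh K (0 + 2))ᵀ) = -((Sh K (0 + 2))ᵀ ⊗ₖ (Sh K (0 + 2))ᵀ))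
    (h3 : F (Hm 0 1 ⊗ₖ Hm 0 1) = -(Hm 0 1 ⊗ₖ Hm 0 1)) : False := by
  obtain ⟨fU, hb, hU⟩ := D.exists_U
  obtain ⟨fY, hi, hY⟩ := D.exists_Y
  have hUadd : ∀ X Y, fU (X + Y) = fU X + fU Y := fun X Y => kron_inj_left (κ := Fin (0 + 2)) (by
    rw [← hU, Matrix.add_kronecker, D.add, hU, hU, ← Matrix.add_kronecker])
  have hYadd : ∀ X Y, fY (X + Y) = fY X + fY Y := fun X Y => kron_inj_right (ι := Fin (0 + 2)) (by
    rw [← hY, Matrix.kronecker_add, D.add, hY, hY, ← Matrix.kronecker_add])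
  have hUmul : ∀ X Y, fU (X * Y) = fU Y * fU X := fun X Y => kron_inj_left (κ := Fin (0 + 2)) (by
    have e : ∀ A B : Matrix (Fin (0 + 2)) (Fin (0 + 2)) K, (A * B) ⊗ₖ (1 : Matrix (Fin (0 + 2)) (Fin (0 + 2)) K) =
      (A ⊗ₖ 1) * (B ⊗ₖ 1) := fun A B => by rw [← Matrix.mul_kronecker_mul, mul_one]
    rw [← hU, e, hmul, hU, hU, ← e])
  have hYmul : ∀ X Y, fY (X * Y) = fY Y * fY X := fun X Y => kron_inj_right (ι := Fin (0 + 2)) (by
    have e : ∀ A B : Matrix (Fin (0 + 2)) (Fin (0 + 2)) K, (1 : Matrix (Fin (0 + 2)) (Fin (0 + 2)) K) ⊗ₖ (A * B) =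
      (1 ⊗ₖ A) * (1 ⊗ₖ B) := fun A B => by rw [← Matrix.mul_kronecker_mul, mul_one]
    rw [← hY, e, hmul, hY, hY, ← e])
  have hU1 : fU 1 = 1 := kron_inj_left (κ := Fin (0 + 2)) (by rw [← hU, Matrix.one_kronecker_one, D.one])
  have hUsub : ∀ X Y, fU (X - Y) = fU X - fU Y := by
    intro X Y
    have h := hUadd (X - Y) Y
    rw [sub_add_cancel] at h
    rw [h, add_sub_cancel_right]
  have hYsub : ∀ X Y, fY (X - Y) = fY X - fY Y := by
    intro X Y
    have h := hYadd (X - Y) Y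
    rw [sub_add_cancel] at h
    rw [h, add_sub_cancel_right]
  rw [D.kron hU hY, neg_kron] at h1 h2 h3
  obtain ⟨c, hc, hc1, hc2⟩ := pure_eq h1 (neg_ne_zero.2 (Sh_ne 0)) (Sh_ne 0)
  obtain ⟨d, hd, hd1, hd2⟩ := pure_eq h2 (neg_ne_zero.2 (ShT_ne 0)) (ShT_ne 0)
  obtain ⟨k, hk, hk1, hk2⟩ := pure_eq h3 (neg_ne_zero.2 (Hm_ne 0 1)) (Hm_ne 0 1)
  rw [Sh_two] at hc1 hc2
  rw [Sh_two, Matrix.transpose_single] at hd1 hd2
  have u00 : fU (Matrix.single 0 0 1) = (d * c) • Matrix.single 1 1 1 := by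
    have e : (Matrix.single 0 0 1 : Matrix (Fin (0 + 2)) (Fin (0 + 2)) K) = Matrix.single 0 1 1 * Matrix.single 1 0 1 := by
      rw [Matrix.single_mul_single_same, mul_one]
    rw [e, hUmul, hc1, hd1, Matrix.smul_mul, Matrix.mul_smul, smul_smul, neg_mul_neg, Matrix.single_mul_single_same, mul_one]
  have u11 : fU (Matrix.single 1 1 1) = (c * d) • Matrix.single 0 0 1 := by
    have e : (Matrix.single 1 1 1 : Matrix (Fin (0 + 2)) (Fin (0 + 2)) K) = Matrix.single 1 0 1 * Matrix.single 0 1 1 := by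
      rw [Matrix.single_mul_single_same, mul_one]
    rw [e, hUmul, hc1, hd1, Matrix.smul_mul, Matrix.mul_smul, smul_smul, neg_mul_neg, Matrix.single_mul_single_same, mul_one]
  have y00 : fY (Matrix.single 0 0 1) = (d⁻¹ * c⁻¹) • Matrix.single 1 1 1 := by
    have e : (Matrix.single 0 0 1 : Matrix (Fin (0 + 2)) (Fin (0 + 2)) K) = Matrix.single 0 1 1 * Matrix.single 1 0 1 := by
      rw [Matrix.single_mul_single_same, mul_one]
    rw [e, hYmul, hc2, hd2, Matrix.smul_mul, Matrix.mul_smul, smul_smul, Matrix.single_mul_single_same, mul_one]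
  have y11 : fY (Matrix.single 1 1 1) = (c⁻¹ * d⁻¹) • Matrix.single 0 0 1 := by
    have e : (Matrix.single 1 1 1 : Matrix (Fin (0 + 2)) (Fin (0 + 2)) K) = Matrix.single 1 0 1 * Matrix.single 0 1 1 := by
      rw [Matrix.single_mul_single_same, mul_one]
    rw [e, hYmul, hc2, hd2, Matrix.smul_mul, Matrix.mul_smul, smul_smul, Matrix.single_mul_single_same, mul_one]
  rw [Hm_eq, hUsub, hUadd, hUsub, u00, u11, hc1, hd1] at hk1
  rw [Hm_eq, hYsub, hYadd, hYsub, y00, y11, hc2, hd2] at hk2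
  have e00 := congrFun (congrFun hk1 0) 0
  have e01 := congrFun (congrFun hk1 0) 1
  have f00 := congrFun (congrFun hk2 0) 0
  have f01 := congrFun (congrFun hk2 0) 1
  simp [Matrix.sub_apply, Matrix.add_apply, Matrix.smul_apply] at e00 e01 f00 f01
  have hcd : c * d = 1 := by
    have h4 := hU1
    have e : (1 : Matrix (Fin (0 + 2)) (Fin (0 + 2)) K) = Matrix.single 0 0 1 + Matrix.single 1 1 1 := by
      ext i j
      fin_cases i <;> fin_cases j <;> simp
    rw [e, hUadd, u00, u11] at h4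
    have h5 := congrFun (congrFun h4 0) 0
    simpa using h5
  have hk1' : k = 1 := e00.symm.trans hcd
  rw [← mul_inv, hcd, hk1', inv_one] at f00
  apply h20
  linear_combination -f00

end

end Cfsg.Agent.H195.FC
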