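import Cfsg.Agent.H195.FC.Tens

/-!
# S5764, tensor decompositions: ring automorphisms and anti-automorphisms (helper195)
-/

set_option autoImplicit false
set_option linter.unusedSectionVars false

namespace Cfsg.Agent.H195.FC

open Matrix
open scoped Kronecker

section

variable {K : Type*} [Field K] {ι κ : Type*} [Fintype ι] [DecidableEq ι] [Fintype κ] [DecidableEq κ]

theorem kron_inj_left [Nonempty κ] {A A' : Matrix ι ι K} (h : A ⊗ₖ (1 : Matrix κ κ K) = A' ⊗ₖ (1 : Matrix κ κ K)) : A = A' := by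
  obtain ⟨j⟩ := ‹Nonempty κ›
  ext i i'
  have := congrFun (congrFun h (i, j)) (i', j)
  simpa using this

theorem kron_inj_right [Nonempty ι] {A A' : Matrix κ κ K} (h : (1 : Matrix ι ι K) ⊗ₖ A = (1 : Matrix ι ι K) ⊗ₖ A') : A = A' := by
  obtain ⟨j⟩ := ‹Nonempty ι›
  ext i i'
  have := congrFun (congrFun h (j, i)) (j, i')
  simpa using this

theorem kron_mul_comm (B : Matrix ι ι K) (h : Matrix κ κ K) :
    (B ⊗ₖ (1 : Matrix κ κ K)) * ((1 : Matrix ι ι K) ⊗ₖ h) = B ⊗ₖ h := by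
  rw [← Matrix.mul_kronecker_mul, mul_one, one_mul]

theorem kron_mul_comm' (B : Matrix ι ι K) (h : Matrix κ κ K) :
    ((1 : Matrix ι ι K) ⊗ₖ h) * (B ⊗ₖ (1 : Matrix κ κ K)) = B ⊗ₖ h := by
  rw [← Matrix.mul_kronecker_mul, mul_one, one_mul]

theorem kron_pow (A : Matrix ι ι K) (C : Matrix κ κ K) (n : ℕ) : (A ⊗ₖ C) ^ n = (A ^ n) ⊗ₖ (C ^ n) := by
  induction n with
  | zero => simp
  | succ n ih => rw [pow_succ, ih, ← Matrix.mul_kronecker_mul, ← pow_succ, ← pow_succ]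

/-- comparison of pure tensors -/
theorem pure_eq {A A' : Matrix ι ι K} {C C' : Matrix κ κ K} (h : A ⊗ₖ C = A' ⊗ₖ C') (hA : A' ≠ 0) (hC : C' ≠ 0) :
    ∃ c : K, c ≠ 0 ∧ A = c • A' ∧ C = c⁻¹ • C' := by
  obtain ⟨i₀, i₁, hi⟩ : ∃ i₀ i₁, A' i₀ i₁ ≠ 0 := by
    by_contra! hcon
    exact hA (by ext i j; exact hcon i j)
  obtain ⟨j₀, j₁, hj⟩ : ∃ j₀ j₁, C' j₀ j₁ ≠ 0 := by
    by_contra! hcon
    exact hC (by ext i j; exact hcon i j)
  have key : ∀ i i' j j', A i i' * C j j' = A' i i' * C' j j' := by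
    intro i i' j j'
    have := congrFun (congrFun h (i, j)) (i', j')
    simpa using this
  have h0 := key i₀ i₁ j₀ j₁
  have hne : A i₀ i₁ * C j₀ j₁ ≠ 0 := by rw [h0]; exact mul_ne_zero hi hj
  have hAne := left_ne_zero_of_mul hne
  have hCne := right_ne_zero_of_mul hne
  refine ⟨C' j₀ j₁ / C j₀ j₁, div_ne_zero hj hCne, ?_, ?_⟩
  · ext i i'
    have h1 := key i i' j₀ j₁
    rw [Matrix.smul_apply, smul_eq_mul]
    field_simp
    linear_combination h1
  · ext j j'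
    have h1 := key i₀ i₁ j j'
    rw [Matrix.smul_apply, smul_eq_mul]
    have h2 : A i₀ i₁ * (C j j' * C' j₀ j₁) = A i₀ i₁ * (C j₀ j₁ * C' j j') := by
      linear_combination C' j₀ j₁ * h1 - C' j j' * h0
    have h3 := mul_left_cancel₀ hAne h2
    field_simp
    linear_combination h3

/-- a ring automorphism or anti-automorphism of `M_{ικ}(K)` preserving `M_ι(K) ⊗ 1` -/
structure Data (F : Matrix (ι × κ) (ι × κ) K → Matrix (ι × κ) (ι × κ) K) : Prop where
  add : ∀ X Y, F (X + Y) = F X + F Y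
  inj : Function.Injective F
  mul : (∀ X Y, F (X * Y) = F X * F Y) ∨ (∀ X Y, F (X * Y) = F Y * F X)
  pres : ∀ B : Matrix ι ι K, ∃ B' : Matrix ι ι K, F (B ⊗ₖ (1 : Matrix κ κ K)) = B' ⊗ₖ (1 : Matrix κ κ K)

namespace Data

variable {F : Matrix (ι × κ) (ι × κ) K → Matrix (ι × κ) (ι × κ) K}

theorem zero (D : Data F) : F 0 = 0 := by
  have h := D.add 0 0
  rw [add_zero] at h
  exact left_eq_add.1 h

theorem one [Finite K] (D : Data F) : F 1 = 1 := by
  have hs : Function.Surjective F := Finite.surjective_of_injective D.inj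
  obtain ⟨X, hX⟩ := hs 1
  rcases D.mul with h | h
  · have h1 := h 1 X
    rw [one_mul, hX, mul_one] at h1
    exact h1.symm
  · have h1 := h X 1
    rw [mul_one, hX, mul_one] at h1
    exact h1.symm

theorem neg (D : Data F) (X : Matrix (ι × κ) (ι × κ) K) : F (-X) = - F X := by
  have h := D.add (-X) X
  rw [neg_add_cancel, D.zero] at h
  exact eq_neg_of_add_eq_zero_left h.symm

theorem pow (D : Data F) (X : Matrix (ι × κ) (ι × κ) K) {n : ℕ} (hn : 0 < n) : F (X ^ n) = F X ^ n := by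
  induction n with
  | zero => omega
  | succ n ih =>
    rcases Nat.eq_zero_or_pos n with h0 | h0
    · subst h0
      simp
    · rw [pow_succ]
      rcases D.mul with h | h
      · rw [h, ih h0, ← pow_succ]
      · rw [h, ih h0, ← pow_succ']

/-- the action on the first factor -/
theorem exists_U [Finite K] [Nonempty κ] (D : Data F) : ∃ fU : Matrix ι ι K → Matrix ι ι K, Function.Bijective fU ∧
    ∀ B, F (B ⊗ₖ (1 : Matrix κ κ K)) = (fU B) ⊗ₖ (1 : Matrix κ κ K) := by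
  choose fU hU using D.pres
  refine ⟨fU, Finite.injective_iff_bijective.1 fun A B h => ?_, hU⟩
  apply kron_inj_left (κ := κ)
  apply D.inj
  rw [hU, hU, h]

/-- the action on the second factor -/
theorem exists_Y [Finite K] [Nonempty ι] [Nonempty κ] (D : Data F) : ∃ fY : Matrix κ κ K → Matrix κ κ K,
    Function.Injective fY ∧ ∀ h, F ((1 : Matrix ι ι K) ⊗ₖ h) = (1 : Matrix ι ι K) ⊗ₖ (fY h) := by
  obtain ⟨fU, hb, hU⟩ := D.exists_U
  have h1 : ∀ h : Matrix κ κ K, ∃ h', F ((1 : Matrix ι ι K) ⊗ₖ h) = (1 : Matrix ι ι K) ⊗ₖ h' := by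
    intro h
    apply of_comm
    intro C
    obtain ⟨B, rfl⟩ := hb.2 C
    rw [← hU]
    rcases D.mul with hm | hm
    · rw [← hm, ← hm, kron_mul_comm, kron_mul_comm']
    · rw [← hm, ← hm, kron_mul_comm, kron_mul_comm']
  choose fY hY using h1
  refine ⟨fY, fun A B h => ?_, hY⟩
  apply kron_inj_right (ι := ι)
  apply D.inj
  rw [hY, hY, h]

theorem kron (D : Data F) {fU : Matrix ι ι K → Matrix ι ι K} (hU : ∀ B, F (B ⊗ₖ (1 : Matrix κ κ K)) = (fU B) ⊗ₖ (1 : Matrix κ κ K))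
    {fY : Matrix κ κ K → Matrix κ κ K} (hY : ∀ h, F ((1 : Matrix ι ι K) ⊗ₖ h) = (1 : Matrix ι ι K) ⊗ₖ (fY h))
    (B : Matrix ι ι K) (h : Matrix κ κ K) : F (B ⊗ₖ h) = (fU B) ⊗ₖ (fY h) := by
  rw [← kron_mul_comm]
  rcases D.mul with hm | hm
  · rw [hm, hU, hY, kron_mul_comm]
  · rw [hm, hU, hY, kron_mul_comm']

/-- **Main step.** -/
theorem main [Finite K] [Nonempty ι] [Nonempty κ] (D : Data F) {B : Matrix ι ι K} {h : Matrix κ κ K} {n : ℕ}
    (hn : 0 < n) (hB : B ^ n = 0) (hh : h ^ n = 0) (hB0 : B ≠ 0) (hh0 : h ≠ 0) {x xi : Matrix (ι × κ) (ι × κ) K}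
    (hx : x = 1 + B ⊗ₖ h) (hxi : x * xi = 1) (hxi' : xi * x = 1)
    (H : ∀ C : Matrix ι ι K, ∃ E : Matrix ι ι K, x * F (xi * (C ⊗ₖ (1 : Matrix κ κ K)) * x) * xi = E ⊗ₖ (1 : Matrix κ κ K)) :
    ((∀ X Y, F (X * Y) = F X * F Y) → F x = x) ∧ ((∀ X Y, F (X * Y) = F Y * F X) → x * F x = 1) := by
  obtain ⟨fU, hb, hU⟩ := D.exists_U
  obtain ⟨fY, hi, hY⟩ := D.exists_Y
  have hnilU : (fU B) ^ n = 0 := by
    apply kron_inj_left (κ := κ)
    have h1 : ((fU B) ^ n) ⊗ₖ (1 : Matrix κ κ K) = ((fU B) ⊗ₖ (1 : Matrix κ κ K)) ^ n := by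
      rw [kron_pow, one_pow]
    rw [h1, ← hU, ← D.pow _ hn, kron_pow, hB, Matrix.zero_kronecker, Matrix.zero_kronecker, D.zero]
  have hnilY : (fY h) ^ n = 0 := by
    apply kron_inj_right (ι := ι)
    have h1 : (1 : Matrix ι ι K) ⊗ₖ ((fY h) ^ n) = ((1 : Matrix ι ι K) ⊗ₖ (fY h)) ^ n := by
      rw [kron_pow, one_pow]
    rw [h1, ← hY, ← D.pow _ hn, kron_pow, hh, Matrix.kronecker_zero, Matrix.kronecker_zero, D.zero]
  have hFx : F x = 1 + (fU B) ⊗ₖ (fY h) := by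
    rw [hx, D.add, D.one, D.kron hU hY]
  have hfix : ∀ v w, (fY h *ᵥ w = 0 ∨ fU B *ᵥ v = 0) → F x *ᵥ ot v w = ot v w := by
    intro v w hvw
    rw [hFx, add_mulVec, one_mulVec, kron_ot]
    rcases hvw with h1 | h1
    · rw [h1]
      have : ot (fU B *ᵥ v) (0 : κ → K) = 0 := by funext p; simp [ot]
      rw [this, add_zero]
    · rw [h1]
      have : ot (0 : ι → K) (fY h *ᵥ w) = 0 := by funext p; simp [ot]
      rw [this, add_zero]
  have hxot : ∀ v w, x *ᵥ ot v w = ot v w + ot (B *ᵥ v) (h *ᵥ w) := by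
    intro v w
    rw [hx, add_mulVec, one_mulVec, kron_ot]
  constructor
  · intro hm
    have hy : F x * F xi = 1 := by rw [← hm, hxi, D.one]
    have hy' : F xi * F x = 1 := by rw [← hm, hxi', D.one]
    have h1 : ∀ C : Matrix ι ι K, ∃ E : Matrix ι ι K, (x * F xi) * (C ⊗ₖ (1 : Matrix κ κ K)) = (E ⊗ₖ (1 : Matrix κ κ K)) * (x * F xi) := by
      intro C
      obtain ⟨C', rfl⟩ := hb.2 C
      obtain ⟨E, hE⟩ := H C'
      refine ⟨E, ?_⟩
      rw [hm, hm, hU] at hE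
      rw [← hE]
      have h2 : x * (F xi * (fU C' ⊗ₖ (1 : Matrix κ κ K)) * F x) * xi * (x * F xi) =
          x * F xi * (fU C' ⊗ₖ (1 : Matrix κ κ K)) * (F x * (xi * x) * F xi) := by noncomm_ring
      rw [h2, hxi', mul_one, hy, mul_one]
    choose E hE using h1
    have h3 : x * F xi = 1 := rigid hE hB hh hnilU hnilY hB0 hh0
      (fun v w hw => by
        have h4 := hfix v w (Or.inl hw)
        rw [← mulVec_mulVec]
        nth_rewrite 1 [← h4]
        rw [mulVec_mulVec (ot v w) (F xi) (F x), hy', one_mulVec, hxot])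
      (fun v w hv => by
        have h4 := hfix v w (Or.inr hv)
        rw [← mulVec_mulVec]
        nth_rewrite 1 [← h4]
        rw [mulVec_mulVec (ot v w) (F xi) (F x), hy', one_mulVec, hxot])
    calc F x = (x * F xi) * F x := by rw [h3, one_mul]
      _ = x := by rw [mul_assoc, hy', mul_one]
  · intro hm
    have hy : F xi * F x = 1 := by rw [← hm, hxi, D.one]
    have hy' : F x * F xi = 1 := by rw [← hm, hxi', D.one]
    have h1 : ∀ C : Matrix ι ι K, ∃ E : Matrix ι ι K, (x * F x) * (C ⊗ₖ (1 : Matrix κ κ K)) = (E ⊗ₖ (1 : Matrix κ κ K)) * (x * F x) := by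
      intro C
      obtain ⟨C', rfl⟩ := hb.2 C
      obtain ⟨E, hE⟩ := H C'
      refine ⟨E, ?_⟩
      rw [hm, hm, hU] at hE
      rw [← hE]
      have h2 : x * (F x * ((fU C' ⊗ₖ (1 : Matrix κ κ K)) * F xi)) * xi * (x * F x) =
          x * F x * (fU C' ⊗ₖ (1 : Matrix κ κ K)) * (F xi * (xi * x) * F x) := by noncomm_ring
      rw [h2, hxi', mul_one, hy, mul_one]
    choose E hE using h1
    exact rigid hE hB hh hnilU hnilY hB0 hh0
      (fun v w hw => by rw [← mulVec_mulVec, hfix v w (Or.inl hw), hxot])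
      (fun v w hv => by rw [← mulVec_mulVec, hfix v w (Or.inr hv), hxot])

end Data

end

end Cfsg.Agent.H195.FC
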