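import Mathlib

/-!
# S5764, tensor decompositions: rigidity (helper195)
-/

set_option autoImplicit false
set_option linter.unusedSectionVars false

namespace Cfsg.Agent.H195.FC

open Matrix
open scoped Kronecker

section

variable {K : Type*} [Field K] {ι κ : Type*} [Fintype ι] [DecidableEq ι] [Fintype κ] [DecidableEq κ]

/-- the pure tensor `v ⊗ w` -/
def ot (v : ι → K) (w : κ → K) : ι × κ → K := fun p => v p.1 * w p.2

theorem kron_ot (B : Matrix ι ι K) (C : Matrix κ κ K) (v : ι → K) (w : κ → K) :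
    (B ⊗ₖ C) *ᵥ ot v w = ot (B *ᵥ v) (C *ᵥ w) := by
  funext p
  simp only [Matrix.mulVec, dotProduct, ot, Matrix.kroneckerMap_apply]
  rw [Finset.sum_mul_sum, ← Finset.univ_product_univ, Finset.sum_product]
  refine Finset.sum_congr rfl fun i _ => Finset.sum_congr rfl fun j _ => ?_
  ring

theorem ext_ot {A A' : Matrix (ι × κ) (ι × κ) K} (h : ∀ v w, A *ᵥ ot v w = A' *ᵥ ot v w) : A = A' := by
  apply Matrix.ext_of_mulVec_single
  rintro ⟨i, j⟩
  have e : (Pi.single (i, j) (1 : K) : ι × κ → K) = ot (Pi.single i 1) (Pi.single j 1) := by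
    funext p
    obtain ⟨a, b⟩ := p
    simp only [ot, Pi.single_apply, Prod.mk.injEq]
    by_cases h1 : a = i <;> by_cases h2 : b = j <;> simp [h1, h2]
  rw [e, h]

/-- contraction of the second factor -/
def cr (ψ : (κ → K) →ₗ[K] K) : (ι × κ → K) →ₗ[K] (ι → K) where
  toFun X := fun i => ψ (fun j => X (i, j))
  map_add' X Y := by
    funext i
    exact map_add ψ (fun j => X (i, j)) (fun j => Y (i, j))
  map_smul' a X := by
    funext i
    exact map_smul ψ a (fun j => X (i, j))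

theorem cr_ot (ψ : (κ → K) →ₗ[K] K) (v : ι → K) (w : κ → K) : cr ψ (ot v w) = ψ w • v := by
  funext i
  change ψ (v i • w) = _
  rw [map_smul, Pi.smul_apply, smul_eq_mul, smul_eq_mul, mul_comm]

/-- contraction of the first factor -/
def cl (φ : (ι → K) →ₗ[K] K) : (ι × κ → K) →ₗ[K] (κ → K) where
  toFun X := fun j => φ (fun i => X (i, j))
  map_add' X Y := by
    funext j
    exact map_add φ (fun i => X (i, j)) (fun i => Y (i, j))
  map_smul' a X := by
    funext j
    exact map_smul φ a (fun i => X (i, j))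

theorem cl_ot (φ : (ι → K) →ₗ[K] K) (v : ι → K) (w : κ → K) : cl φ (ot v w) = φ v • w := by
  funext j
  change φ (fun i => v i * w j) = _
  have : (fun i => v i * w j) = w j • v := by
    funext i; simp [mul_comm]
  rw [this, map_smul, Pi.smul_apply, smul_eq_mul, smul_eq_mul, mul_comm]

theorem exists_fun {a b : ι → K} (h : b ∉ Submodule.span K {a}) : ∃ φ : (ι → K) →ₗ[K] K, φ a = 0 ∧ φ b ≠ 0 := by
  obtain ⟨φ, h1, h2⟩ := Submodule.exists_le_ker_of_notMem h
  exact ⟨φ, h2 (Submodule.mem_span_singleton_self a), h1⟩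

theorem nil_eig {B : Matrix ι ι K} {n : ℕ} (hB : B ^ n = 0) {v : ι → K} (hv : v ≠ 0)
    (h : B *ᵥ v ∈ Submodule.span K {v}) : B *ᵥ v = 0 := by
  obtain ⟨a, ha⟩ := Submodule.mem_span_singleton.1 h
  have h1 : ∀ m : ℕ, (B ^ m) *ᵥ v = a ^ m • v := by
    intro m
    induction m with
    | zero => simp
    | succ m ih => rw [pow_succ, ← mulVec_mulVec, ← ha, mulVec_smul, ih, smul_smul, pow_succ, mul_comm]
  have h2 := h1 n
  rw [hB, zero_mulVec] at h2
  rcases smul_eq_zero.1 h2.symm with h3 | h3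
  · have : a = 0 := by
      by_contra hne
      exact pow_ne_zero n hne h3
    rw [← ha, this, zero_smul]
  · exact absurd h3 hv

theorem exists_ker [Nonempty ι] {B : Matrix ι ι K} {n : ℕ} (hB : B ^ n = 0) : ∃ v : ι → K, v ≠ 0 ∧ B *ᵥ v = 0 := by
  rw [Matrix.exists_mulVec_eq_zero_iff]
  have h : B.det ^ n = 0 := by
    rcases Nat.eq_zero_or_pos n with h0 | h0
    · subst h0
      rw [pow_zero] at hB
      exact absurd hB one_ne_zero
    · rw [← Matrix.det_pow, hB, Matrix.det_zero]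
  by_contra hne
  exact pow_ne_zero n hne h

/-- a matrix commuting with all `C ⊗ 1` is `1 ⊗ g` -/
theorem of_comm [Nonempty ι] {m : Matrix (ι × κ) (ι × κ) K}
    (h : ∀ C : Matrix ι ι K, m * (C ⊗ₖ (1 : Matrix κ κ K)) = (C ⊗ₖ (1 : Matrix κ κ K)) * m) :
    ∃ g : Matrix κ κ K, m = (1 : Matrix ι ι K) ⊗ₖ g := by
  obtain ⟨i₀⟩ := ‹Nonempty ι›
  have key : ∀ (a b : ι) (i i' : ι) (j l : κ), (if b = i' then m (i, j) (a, l) else 0) = if a = i then m (b, j) (i', l) else 0 := by
    intro a b i i' j l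
    have h1 := congrFun (congrFun (h (Matrix.single a b 1)) (i, j)) (i', l)
    rw [Matrix.mul_apply, Matrix.mul_apply, Fintype.sum_prod_type, Fintype.sum_prod_type] at h1
    simp only [Matrix.kroneckerMap_apply, Matrix.single_apply, Matrix.one_apply] at h1
    rw [Finset.sum_eq_single a, Finset.sum_eq_single l, Finset.sum_eq_single b, Finset.sum_eq_single j] at h1
    · simpa using h1
    all_goals first | (intro x _ hx; simp [hx, Ne.symm hx]) | (intro hx; exact absurd (Finset.mem_univ _) hx)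
  refine ⟨Matrix.of fun j l => m (i₀, j) (i₀, l), ?_⟩
  ext ⟨i, j⟩ ⟨i', l⟩
  rw [Matrix.kroneckerMap_apply, Matrix.one_apply, Matrix.of_apply]
  by_cases hii : i = i'
  · subst hii
    have h1 := key i₀ i i₀ i j l
    rw [if_pos rfl, if_pos rfl] at h1
    rw [if_pos rfl, one_mul, h1]
  · have h1 := key i i i i' j l
    rw [if_neg hii, if_pos rfl] at h1
    rw [if_neg hii, zero_mul, ← h1]

/-- **Rigidity.** -/
theorem rigid [Nonempty ι] [Nonempty κ] {m : Matrix (ι × κ) (ι × κ) K} {D : Matrix ι ι K → Matrix ι ι K}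
    (hm : ∀ C : Matrix ι ι K, m * (C ⊗ₖ (1 : Matrix κ κ K)) = ((D C) ⊗ₖ (1 : Matrix κ κ K)) * m)
    {B B' : Matrix ι ι K} {h h' : Matrix κ κ K} {n : ℕ} (hB : B ^ n = 0) (hh : h ^ n = 0) (hB' : B' ^ n = 0) (hh' : h' ^ n = 0)
    (hB0 : B ≠ 0) (hh0 : h ≠ 0)
    (h1 : ∀ v w, h' *ᵥ w = 0 → m *ᵥ ot v w = ot v w + ot (B *ᵥ v) (h *ᵥ w))
    (h2 : ∀ v w, B' *ᵥ v = 0 → m *ᵥ ot v w = ot v w + ot (B *ᵥ v) (h *ᵥ w)) : m = 1 := by
  obtain ⟨w₀, hw₀, hw₁⟩ := exists_ker hh'
  obtain ⟨v₀, hv₀, hv₁⟩ := exists_ker hB'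
  -- the basic equation
  have e1 : ∀ (C : Matrix ι ι K) (v : ι → K), ot (C *ᵥ v) w₀ + ot (B *ᵥ C *ᵥ v) (h *ᵥ w₀) =
      ot ((D C) *ᵥ v) w₀ + ot ((D C) *ᵥ B *ᵥ v) (h *ᵥ w₀) := by
    intro C v
    have h3 := congrArg (fun X => X *ᵥ ot v w₀) (hm C)
    simp only [← mulVec_mulVec] at h3
    rw [kron_ot, one_mulVec, h1 _ _ hw₁, h1 _ _ hw₁, mulVec_add, kron_ot, kron_ot, one_mulVec, one_mulVec] at h3
    exact h3
  have hD : ∀ C, D C = C := by
    by_cases hs : h *ᵥ w₀ ∈ Submodule.span K {w₀}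
    · have h0 := nil_eig hh hw₀ hs
      intro C
      obtain ⟨ψ, -, hψ'⟩ := exists_fun (a := (0 : κ → K)) (b := w₀) (by simpa using hw₀)
      apply Matrix.ext_of_mulVec_single
      intro i
      have h3 := congrArg (cr ψ) (e1 C (Pi.single i 1))
      rw [h0] at h3
      simp only [map_add, cr_ot, map_zero, zero_smul, add_zero] at h3
      exact (smul_right_injective _ hψ' h3).symm
    · exfalso
      obtain ⟨ψ, hψ, hψ'⟩ := exists_fun hs
      -- `ψ w₀ = 0`
      have h4 : ∀ (C : Matrix ι ι K) (v : ι → K), B *ᵥ C *ᵥ v = (D C) *ᵥ B *ᵥ v := by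
        intro C v
        have h3 := congrArg (cr ψ) (e1 C v)
        simp only [map_add, cr_ot, hψ, zero_smul, zero_add] at h3
        exact smul_right_injective _ hψ' h3
      have hs' : w₀ ∉ Submodule.span K {h *ᵥ w₀} := by
        intro hcon
        obtain ⟨c, hc⟩ := Submodule.mem_span_singleton.1 hcon
        have hc0 : c ≠ 0 := by
          rintro rfl
          rw [zero_smul] at hc
          exact hw₀ hc.symm
        apply hs
        rw [Submodule.mem_span_singleton]
        refine ⟨c⁻¹, ?_⟩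
        nth_rewrite 1 [← hc]
        rw [smul_smul, inv_mul_cancel₀ hc0, one_smul]
      obtain ⟨ψ₂, hψ₂, hψ₂'⟩ := exists_fun hs'
      have h5 : ∀ C, D C = C := by
        intro C
        apply Matrix.ext_of_mulVec_single
        intro i
        have h3 := congrArg (cr ψ₂) (e1 C (Pi.single i 1))
        simp only [map_add, cr_ot, hψ₂, zero_smul, add_zero] at h3
        exact (smul_right_injective _ hψ₂' h3).symm
      obtain ⟨c, hc⟩ : B ∈ Set.range (Matrix.scalar ι : K → Matrix ι ι K) := by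
        rw [Matrix.mem_range_scalar_iff_commute_single']
        intro i j
        apply Matrix.ext_of_mulVec_single
        intro k
        have h6 := h4 (Matrix.single i j 1) (Pi.single k 1)
        rw [h5, mulVec_mulVec, mulVec_mulVec] at h6
        exact h6.symm
      obtain ⟨v₁, hv₁, hv₂⟩ := exists_ker hB
      rw [← hc, Matrix.scalar_apply, ← Matrix.smul_one_eq_diagonal, smul_mulVec, one_mulVec] at hv₂
      rcases smul_eq_zero.1 hv₂ with h7 | h7
      · apply hB0
        rw [← hc, h7, map_zero]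
      · exact hv₁ h7
  have hc : ∀ C : Matrix ι ι K, m * (C ⊗ₖ (1 : Matrix κ κ K)) = (C ⊗ₖ (1 : Matrix κ κ K)) * m := by
    intro C
    rw [hm C, hD C]
  obtain ⟨g, hg⟩ := of_comm hc
  have e2 : ∀ w, ot v₀ (g *ᵥ w) = ot v₀ w + ot (B *ᵥ v₀) (h *ᵥ w) := by
    intro w
    have h3 := h2 v₀ w hv₁
    rw [hg, kron_ot, one_mulVec] at h3
    exact h3
  by_cases hs : B *ᵥ v₀ ∈ Submodule.span K {v₀}
  · have h0 := nil_eig hB hv₀ hs
    obtain ⟨φ, -, hφ'⟩ := exists_fun (a := (0 : ι → K)) (b := v₀) (by simpa using hv₀)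
    have h3 : g = 1 := by
      apply Matrix.ext_of_mulVec_single
      intro j
      have h4 := congrArg (cl φ) (e2 (Pi.single j 1))
      rw [h0] at h4
      simp only [map_add, cl_ot, map_zero, zero_smul, add_zero] at h4
      rw [one_mulVec]
      exact smul_right_injective _ hφ' h4
    rw [hg, h3, Matrix.one_kronecker_one]
  · exfalso
    obtain ⟨φ, hφ, hφ'⟩ := exists_fun hs
    apply hh0
    apply Matrix.ext_of_mulVec_single
    intro j
    have h4 := congrArg (cl φ) (e2 (Pi.single j 1))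
    simp only [map_add, cl_ot, hφ, zero_smul, zero_add] at h4
    rw [zero_mulVec]
    exact (smul_eq_zero.1 h4.symm).resolve_left hφ'

end

end Cfsg.Agent.H195.FC
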